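import Mathlib
import Cfsg.Agent.Nodes.FreeTorus
import Cfsg.Agent.Nodes.NormalForm
import Cfsg.Agent.Nodes.OppDec
import Cfsg.Agent.Nodes.ClsSub
import Cfsg.Agent.H53.HC.RgdLevi

/-!
# The torus of the group generated by the root groups (helper292, S3830, piece O8c)

`R : RGD cs h p T n X` with `n i ∈ ⟨X_i, X_{-i}⟩`:

* `HH_inf_GG_le` : an element of `GG` normalising every root group lies in `T`;
* `rgd_small` : `R` is also a root group datum with the torus `⨆ i, T ⊓ ⟨X_i, X_{-i}⟩`;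
* `center_MJ_le` : the centre of `M_J` lies in `⨆ i ∈ J, T ⊓ ⟨X_i, X_{-i}⟩`.
-/

set_option autoImplicit false
set_option linter.unusedSectionVars false

namespace Cfsg.Agent.H292.S38.Tor

open Cfsg CoxeterSystem Cfsg.Agent.ChevalleyStructure.CoxeterGeom Cfsg.Agent.Tits.Roots Cfsg.Agent.Tits.Core
  Cfsg.Agent.Tits.Exchange Cfsg.Agent.Nodes.Comb Cfsg.Agent.Nodes.Reps Cfsg.Agent.Nodes.BNOf
  Cfsg.Agent.Nodes.StabComb Cfsg.Agent.Nodes.Bruhat Cfsg.Agent.Nodes.NormalForm Cfsg.Agent.Nodes.OppDec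
  Cfsg.Agent.Nodes.FreeTorus Cfsg.Agent.Nodes.SubComb Cfsg.Agent.Nodes.Sub Cfsg.Agent.Nodes.ClsSub
  Cfsg.Agent.H53.HC

variable {I W Y : Type*} [Fintype I] [DecidableEq I] [Group W] [Group Y] {M : CoxeterMatrix I}
  {cs : CoxeterSystem M W} {A : I → I → ℤ} {h : IsCartan M A} {p : ℕ} {T : Subgroup Y} {n : I → Y}
  {X : (I → ℤ) → Subgroup Y}

theorem acts_n (R : RGD cs h p T n X) (i : I) : Acts cs h X (cs.simple i) (n i) := fun x hx => R.conj i x hx

theorem HH_le_normalizer_Sup {S : Set (I → ℤ)} (hS : ∀ x ∈ S, IsRoot cs h x) :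
    HH cs h X ≤ Subgroup.normalizer (RGD.Sup X S : Set Y) := by
  intro g hg
  rw [mem_normalizer_iff_cj, RGD.cj_Sup]
  unfold RGD.Sup
  refine iSup_congr fun z => ?_
  have := mem_HH.1 hg z.1 (hS z.1 z.2)
  rwa [map_one, Module.End.one_apply] at this

/-- **An element of `GG` normalising every root group lies in the torus.** -/
theorem HH_inf_GG_le [Finite W] (R : RGD cs h p T n X) : HH cs h X ⊓ GG cs h T X ≤ T := by
  intro g hgG
  obtain ⟨hg, hG⟩ := Subgroup.mem_inf.1 hgG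
  have h1 : g ∈ RGD.B cs h T X := by
    rw [← normalizer_U R]
    exact Subgroup.mem_inf.2 ⟨HH_le_normalizer_Sup (fun x hx => hx.1) hg, hG⟩
  obtain ⟨k, hk⟩ := exists_rp cs R.nsys (w0 cs)
  have hkA : Acts cs h X (w0 cs) k := fun x hx => R.conj_rp hk hx
  have hkG : k ∈ GG cs h T X := NN_le_GG R ⟨_, hk⟩
  have h2 : g ∈ BN cs h T X := by
    rw [← cj_B R hk, mem_cj, ← normalizer_U R]
    refine Subgroup.mem_inf.2 ⟨HH_le_normalizer_Sup (fun x hx => hx.1) ?_, mul_mem (mul_mem (inv_mem hkG) hG) hkG⟩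
    rw [← hkA.cj_HH, mem_cj] at hg
    exact hg
  rw [← B_inf_BN R]
  exact Subgroup.mem_inf.2 ⟨h1, h2⟩

theorem LL_le_GG {x : I → ℤ} (hx : IsRoot cs h x) : LL X x ≤ GG cs h T X :=
  sup_le (X_le_GG hx) (X_le_GG hx.neg)

theorem T_le_HH (R : RGD cs h p T n X) : T ≤ HH cs h X := by
  intro t ht x hx
  rw [map_one, Module.End.one_apply]
  exact R.tor x hx t ht

variable (T X) in
/-- the torus generated by the rank one tori -/
def TS : Subgroup Y := ⨆ i : I, T ⊓ LL X (sr i)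

theorem le_TS (i : I) : T ⊓ LL X (sr i) ≤ TS T X := le_iSup (fun i : I => T ⊓ LL X (sr i)) i

theorem TS_le : TS T X ≤ T := iSup_le fun _ => inf_le_left

theorem cj_n_TS_le (R : RGD cs h p T n X) (hn : ∀ i, n i ∈ LL X (sr i)) (i : I) {t : Y} (ht : t ∈ T)
    (h0 : t ∈ TS T X) : n i * t * (n i)⁻¹ ∈ TS T X := by
  have h1 : t⁻¹ * n i * t ∈ LL X (sr i) := by
    have h2 := ((mem_HH.1 (T_le_HH R (inv_mem ht)))).cj_LL (isRoot_sr cs h i)
    rw [map_one, Module.End.one_apply] at h2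
    have h3 : t⁻¹ * n i * t⁻¹⁻¹ ∈ cj t⁻¹ (LL X (sr i)) := conj_mem_cj.2 (hn i)
    rwa [h2, inv_inv] at h3
  have h2 : n i * t * (n i)⁻¹ ∈ T := (Subgroup.mem_normalizer_iff.1 (R.nsys.norm i) t).1 ht
  have e : n i * t * (n i)⁻¹ = t * (t⁻¹ * n i * t * (n i)⁻¹) := by group
  rw [e]
  refine mul_mem h0 (le_TS i (Subgroup.mem_inf.2 ⟨?_, mul_mem h1 (inv_mem (hn i))⟩))
  have e' : t⁻¹ * n i * t * (n i)⁻¹ = t⁻¹ * (n i * t * (n i)⁻¹) := by group
  rw [e']
  exact mul_mem (inv_mem ht) h2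

theorem inv_conj_n_TS (R : RGD cs h p T n X) (hn : ∀ i, n i ∈ LL X (sr i)) (i : I) {t : Y} (ht : t ∈ T)
    (h0 : t ∈ TS T X) : (n i)⁻¹ * t * n i ∈ TS T X := by
  have hT : (n i)⁻¹ * t * n i ∈ T := by
    have := (Subgroup.mem_normalizer_iff.1 (inv_mem (R.nsys.norm i)) t).1 ht
    rwa [inv_inv] at this
  have h1 : t⁻¹ * (n i)⁻¹ * t ∈ LL X (sr i) := by
    have h2 := ((mem_HH.1 (T_le_HH R (inv_mem ht)))).cj_LL (isRoot_sr cs h i)
    rw [map_one, Module.End.one_apply] at h2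
    have h3 : t⁻¹ * (n i)⁻¹ * t⁻¹⁻¹ ∈ cj t⁻¹ (LL X (sr i)) := conj_mem_cj.2 (inv_mem (hn i))
    rwa [h2, inv_inv] at h3
  have e : (n i)⁻¹ * t * n i = t * (t⁻¹ * (n i)⁻¹ * t * n i) := by group
  rw [e]
  refine mul_mem h0 (le_TS i (Subgroup.mem_inf.2 ⟨?_, mul_mem h1 (hn i)⟩))
  have e' : t⁻¹ * (n i)⁻¹ * t * n i = t⁻¹ * ((n i)⁻¹ * t * n i) := by group
  rw [e']
  exact mul_mem (inv_mem ht) hT

theorem n_mem_normalizer_TS (R : RGD cs h p T n X) (hn : ∀ i, n i ∈ LL X (sr i)) (i : I) :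
    n i ∈ Subgroup.normalizer (TS T X : Set Y) := by
  rw [Subgroup.mem_normalizer_iff]
  intro t
  refine ⟨fun ht => cj_n_TS_le R hn i (TS_le ht) ht, fun ht => ?_⟩
  have h1 := inv_conj_n_TS R hn i (TS_le ht) ht
  have e : (n i)⁻¹ * (n i * t * (n i)⁻¹) * n i = t := by group
  rwa [e] at h1

theorem TT_le_TS [Finite W] (R : RGD cs h p T n X) (hn : ∀ i, n i ∈ LL X (sr i)) {x : I → ℤ}
    (hx : IsRoot cs h x) : TT cs h X x ≤ TS T X := by
  obtain ⟨w, i, rfl⟩ := hx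
  obtain ⟨g, hg, hgA⟩ := exists_acts (acts_n R) w
  rw [← hgA.cj_TT (isRoot_sr cs h i)]
  have h1 : g ∈ Subgroup.normalizer (TS T X : Set Y) := by
    refine (Subgroup.closure_le _).2 ?_ hg
    rintro _ ⟨j, rfl⟩
    exact n_mem_normalizer_TS R hn j
  rw [← mem_normalizer_iff_cj.1 h1]
  refine cj_mono g fun t ht => ?_
  obtain ⟨h2, h3⟩ := Subgroup.mem_inf.1 ht
  exact le_TS i (Subgroup.mem_inf.2
    ⟨HH_inf_GG_le R (Subgroup.mem_inf.2 ⟨h3, LL_le_GG (isRoot_sr cs h i) h2⟩), h2⟩)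

/-- **The root group datum with the small torus.** -/
theorem rgd_small [Finite W] (R : RGD cs h p T n X) (hn : ∀ i, n i ∈ LL X (sr i)) :
    RGD cs h p (TS T X) n X where
  nsys := ⟨n_mem_normalizer_TS R hn, fun i j =>
    iSup_le (fun x : {x : I → ℤ // IsRoot cs h x} => TT_le_TS R hn x.2) ((nsys_of_family hn (acts_n R)).rel i j)⟩
  conj := R.conj
  tor x hx t ht := R.tor x hx t (TS_le ht)
  comm := R.comm
  rk1 i u hu hne := by
    obtain ⟨a, ha, t, ht, b, hb, e⟩ := R.rk1 i u hu hne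
    refine ⟨a, ha, t, le_TS i (Subgroup.mem_inf.2 ⟨ht, ?_⟩), b, hb, e⟩
    have e' : t = a⁻¹ * u * b⁻¹ * (n i)⁻¹ := by rw [e]; group
    rw [e']
    exact mul_mem (mul_mem (mul_mem (inv_mem (Subgroup.mem_sup_left ha)) (Subgroup.mem_sup_right hu))
      (inv_mem (Subgroup.mem_sup_left hb))) (inv_mem (hn i))
  pgrp := R.pgrp
  notp := R.notp
  tcop := Nat.Coprime.coprime_dvd_left (Subgroup.card_dvd_of_le TS_le) R.tcop

/-- the centre of the group generated by the root groups -/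
theorem mem_TS_of_center [Finite W] (R : RGD cs h p T n X) (hn : ∀ i, n i ∈ LL X (sr i)) {z : Y}
    (hz : z ∈ RGD.Sup X {x | IsRoot cs h x}) (hc : ∀ x, IsRoot cs h x → ∀ a ∈ X x, z * a = a * z) :
    z ∈ TS T X := by
  refine HH_inf_GG_le (rgd_small R hn) (Subgroup.mem_inf.2 ⟨?_, (le_sup_right : _ ≤ GG cs h (TS T X) X) hz⟩)
  rw [mem_HH]
  intro x hx
  rw [map_one, Module.End.one_apply]
  ext a
  rw [mem_cj]
  constructor
  · intro ha
    have h1 := hc x hx _ ha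
    have e : z⁻¹ * a * z = a := by
      have e1 : a * z = z⁻¹ * a * z * z := by
        rw [← h1]; group
      exact (mul_right_cancel e1).symm
    rwa [e] at ha
  · intro ha
    have e : z⁻¹ * a * z = a := by rw [mul_assoc, ← hc x hx a ha]; group
    rwa [e]

/-- **The centre of `M_J`.** -/
theorem mem_of_center_MJ [Finite W] (R : RGD cs h p T n X) {J : Set I} (hn : ∀ i ∈ J, n i ∈ LL X (sr i)) {z : Y}
    (hz : z ∈ MJ cs h X J) (hc : ∀ a ∈ MJ cs h X J, z * a = a * z) :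
    z ∈ ⨆ i : J, T ⊓ LL X (sr i.1) := by
  classical
  let f : J ↪ I := Function.Embedding.subtype _
  have hf : Set.range f = J := Subtype.range_coe
  let cs' : CoxeterSystem (leviMatrix f M) (leviMatrix f M).Group := (leviMatrix f M).toCoxeterSystem
  have hW' : Finite (leviMatrix f M).Group := (levi_subSys (cs := cs) (h := h) f).finite cs' (levi_isCartan f h)
  have hi : ∀ j : J, iota (fun j : J => sr (f j)) (sr j) = sr (f j) := fun j => iota_sr _ j
  have := Fintype.ofFinite W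
  have := Fintype.ofFinite (leviMatrix f M).Group
  have hR : ∀ {x : I → ℤ}, x ∈ RootsJ cs h J ↔ ∃ c, IsRoot cs' (levi_isCartan f h) c ∧
      x = iota (fun j => sr (f j)) c := by
    intro x
    rw [← mem_RootsJ_range_iff (cs := cs) (h := h) f cs', hf]
  have h1 := mem_TS_of_center (rgd_levi R f cs') (fun j => ?_) (z := z) ?_ fun c hc' a ha => ?_
  · have e : TS T (fun c => X (iota (fun j : J => sr (f j)) c)) = ⨆ i : J, T ⊓ LL X (sr i.1) := by
      unfold TS LL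
      refine iSup_congr fun j => ?_
      beta_reduce
      rw [map_neg, hi]
      rfl
    rwa [e] at h1
  · unfold LL
    beta_reduce
    rw [map_neg, hi]
    exact hn _ j.2
  · refine (?_ : MJ cs h X J ≤ _) hz
    refine RGD.Sup_le fun x hx => ?_
    obtain ⟨c, hc', rfl⟩ := hR.1 hx
    exact RGD.le_Sup (X := fun c => X (iota (fun j : J => sr (f j)) c)) (S := {x | IsRoot cs' (levi_isCartan f h) x})
      hc'
  · exact hc a (RGD.le_Sup (hR.2 ⟨c, hc', rfl⟩) ha)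

end Cfsg.Agent.H292.S38.Tor
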